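import Groth.Agent.H11Degen.Bound
import Groth.Agent.H11Degen.Main
import Groth.Agent.H11Proj.SeparatesPoints

/-!
# Block matrices of morphisms between sums of two locally free modules
-/

set_option autoImplicit false
set_option linter.style.haveILetI false
set_option linter.unusedSectionVars false
set_option backward.isDefEq.respectTransparency.types false

universe u

open CategoryTheory CategoryTheory.Limits AlgebraicGeometry TopologicalSpace Opposite

noncomputable section

namespace Groth.Agent.H11Degen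

variable {X : Scheme.{u}} {M N L : X.Modules} {V : X.Opens}

theorem appLin_comp (φ : M ⟶ N) (ψ : N ⟶ L) : appLin (φ ≫ ψ) V = appLin ψ V ∘ₗ appLin φ V := rfl

theorem appLin_id : appLin (𝟙 M) V = LinearMap.id := rfl

theorem appLin_add (φ ψ : M ⟶ N) : appLin (φ + ψ) V = appLin φ V + appLin ψ V := rfl

theorem appLin_zero : appLin (0 : M ⟶ N) V = 0 := rfl

/-- Sections of a sum are pairs of sections. -/
def sumEquiv (M N : X.Modules) (V : X.Opens) : (Γ(M, V) × Γ(N, V)) ≃ₗ[Γ(X, V)] Γ(M ⊞ N, V) :=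
  LinearEquiv.ofLinearMap ((appLin biprod.inl V).coprod (appLin biprod.inr V))
    ((appLin biprod.fst V).prod (appLin biprod.snd V))
    (by
      rw [LinearMap.coprod_comp_prod, ← appLin_comp, ← appLin_comp, ← appLin_add, biprod.total, appLin_id])
    (by
      rw [LinearMap.prod_comp, LinearMap.comp_coprod, LinearMap.comp_coprod, ← appLin_comp, ← appLin_comp,
        ← appLin_comp, ← appLin_comp, biprod.inl_fst, biprod.inr_fst, biprod.inl_snd, biprod.inr_snd,
        appLin_id, appLin_zero, appLin_id, appLin_zero]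
      ext v <;> simp)

variable {p q : ℕ} (bM : Module.Basis (Fin p) Γ(X, V) Γ(M, V)) (bN : Module.Basis (Fin q) Γ(X, V) Γ(N, V))

/-- The basis of a sum. -/
def sumBasis : Module.Basis (Fin (p + q)) Γ(X, V) Γ(M ⊞ N, V) :=
  ((bM.prod bN).map (sumEquiv M N V)).reindex finSumFinEquiv

theorem sumBasis_left (i : Fin p) : sumBasis bM bN (Fin.castAdd q i) = appLin biprod.inl V (bM i) := by
  simp [sumBasis, sumEquiv]

theorem sumBasis_right (i : Fin q) : sumBasis bM bN (Fin.natAdd p i) = appLin biprod.inr V (bN i) := by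
  simp [sumBasis, sumEquiv]

theorem coord_left (i : Fin p) :
    (sumBasis bM bN).coord (Fin.castAdd q i) = bM.coord i ∘ₗ appLin biprod.fst V := by
  refine LinearMap.ext fun v => ?_
  simp [sumBasis, sumEquiv, Module.Basis.prod_repr_inl]

theorem coord_right (i : Fin q) :
    (sumBasis bM bN).coord (Fin.natAdd p i) = bN.coord i ∘ₗ appLin biprod.snd V := by
  refine LinearMap.ext fun v => ?_
  simp [sumBasis, sumEquiv, Module.Basis.prod_repr_inr]

variable {k : Type u} [Field k] [X.Over (Spec (CommRingCat.of k))] {E F E' F' : X.Modules}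

/-- A linear map between summands of globally generated sheaf Hom lies in the span of a spanning family. -/
theorem block_mem [IsProper (X ↘ Spec (CommRingCat.of k))] [DCoh.HasSheafHom E'] (hE' : FlatMod.IsFinLocFree E')
    (hF' : FlatMod.IsFinLocFree F') (hgg : Curv2.IsGloballyGenerated ((DCoh.sheafHom E').obj F'))
    {m : ℕ} (φ : Fin m → (E ⟶ F)) (hspan : ∀ ψ : E ⟶ F, ∃ c : Fin m → k, ψ = ∑ i, c i • φ i)
    (hV : IsAffineOpen V) (p : E ⟶ E') (j : F' ⟶ F) (ψ : Γ(E', V) →ₗ[Γ(X, V)] Γ(F', V)) :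
    appLin j V ∘ₗ ψ ∘ₗ appLin p V ∈
      (Submodule.span Γ(X, V) (Set.range fun i => appLin (φ i) V) : Submodule Γ(X, V) (Γ(E, V) →ₗ[Γ(X, V)] Γ(F, V))) := by
  have hEc := H16Derived.KFlat.Stalk.isCoh_of_isFinLocFree hE'
  have hFc := H16Derived.KFlat.Stalk.isCoh_of_isFinLocFree hF'
  haveI : Module.Finite k (E' ⟶ F') := H29RR.finite_hom hEc hFc
  let bas := Module.finBasis k (E' ⟶ F')
  have h := exists_comb_app (H8Props.FinLocFree.isFP_of_isFinLocFree E' hE') hFc.1 hgg (fun i => bas i)
    (fun θ => ⟨bas.equivFun θ, (bas.sum_equivFun θ).symm⟩) hV ψ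
  obtain ⟨w, rfl⟩ := (Submodule.mem_span_range_iff_exists_fun _).1 h
  have hexp : appLin j V ∘ₗ (∑ i, w i • appLin (bas i) V) ∘ₗ appLin p V =
      ∑ i, w i • (appLin j V ∘ₗ appLin (bas i) V ∘ₗ appLin p V) := LinearMap.ext fun v => by
    simp only [LinearMap.comp_apply, LinearMap.sum_apply, LinearMap.smul_apply, map_sum, map_smul]
  rw [hexp]
  refine Submodule.sum_mem _ fun i _ => Submodule.smul_mem _ _ ?_
  obtain ⟨c, hc⟩ := hspan (p ≫ bas i ≫ j)
  rw [← appLin_comp, ← appLin_comp, Category.assoc, hc, appLin_comb]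
  exact Submodule.sum_mem _ fun i _ => Submodule.smul_mem _ _ (Submodule.subset_span ⟨i, rfl⟩)

theorem toMatrix_coord_smul {R : Type*} [CommRing R] {U W : Type*} [AddCommGroup U] [AddCommGroup W] [Module R U]
    [Module R W] {e f : ℕ} (bU : Module.Basis (Fin e) R U) (bW : Module.Basis (Fin f) R W) (a : Fin f) (b : Fin e) :
    LinearMap.toMatrix bU bW ((bU.coord b).smulRight (bW a)) = Matrix.single a b 1 := by
  ext x y
  simp only [LinearMap.toMatrix_apply, Matrix.single_apply, LinearMap.smulRight_apply, Module.Basis.coord_apply,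
    Module.Basis.repr_self, map_smul, Finsupp.smul_apply, Finsupp.single_apply, smul_eq_mul]
  split_ifs <;> simp_all

variable {e f : ℕ} (bE : Module.Basis (Fin e) Γ(X, V) Γ(E, V)) (bF : Module.Basis (Fin f) Γ(X, V) Γ(F, V))

theorem exists_single_of_mem {m : ℕ} (φ : Fin m → (E ⟶ F)) (a : Fin f) (b : Fin e)
    (h : (bE.coord b).smulRight (bF a) ∈
      (Submodule.span Γ(X, V) (Set.range fun i => appLin (φ i) V) : Submodule Γ(X, V) (Γ(E, V) →ₗ[Γ(X, V)] Γ(F, V)))) :
    ∃ w : Fin m → Γ(X, V), ∑ i, w i • mat bE bF (φ i) = Matrix.single a b 1 := by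
  obtain ⟨w, hw⟩ := (Submodule.mem_span_range_iff_exists_fun _).1 h
  refine ⟨w, ?_⟩
  have h' := congrArg (LinearMap.toMatrix bE bF) hw
  rw [map_sum, toMatrix_coord_smul] at h'
  simp only [map_smul] at h'
  exact h'

theorem comp_smulRight' {A B C : Type*} {R : Type*} [CommRing R] [AddCommGroup A] [AddCommGroup B] [AddCommGroup C]
    [Module R A] [Module R B] [Module R C] (g : B →ₗ[R] C) (l : A →ₗ[R] R) (b : B) :
    l.smulRight (g b) = g ∘ₗ l.smulRight b := by
  ext v; simp

end Groth.Agent.H11Degen
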