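import Groth.Agent.H11Degen.Block

/-!
# Rank drop loci of general morphisms between sums, with some free blocks
-/

set_option autoImplicit false
set_option linter.style.haveILetI false
set_option linter.unusedSectionVars false
set_option backward.isDefEq.respectTransparency.types false

universe u

open CategoryTheory CategoryTheory.Limits AlgebraicGeometry TopologicalSpace Opposite

noncomputable section

namespace Groth.Agent.H11Degen

variable {k : Type u} [Field k] [IsAlgClosed k] {X : Scheme.{u}} [X.Over (Spec (CommRingCat.of k))]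
  [Smooth (X ↘ Spec (CommRingCat.of k))]

include k in
/-- The local rings at maximal ideals of an affine open. -/
theorem regular_maximal {n : ℕ} (hn : ∀ x : X, IsClosed ({x} : Set X) → ringKrullDim (X.presheaf.stalk x) = n)
    {V : X.Opens} (hV : IsAffineOpen V) (M : Ideal Γ(X, V)) [M.IsMaximal] :
    IsRegularLocalRing (Localization.AtPrime M) ∧ ringKrullDim (Localization.AtPrime M) = n := by
  haveI : JacobsonSpace X := LocallyOfFiniteType.jacobsonSpace (X ↘ Spec (CommRingCat.of k))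
  let P : PrimeSpectrum Γ(X, V) := ⟨M, ‹M.IsMaximal›.isPrime⟩
  have hx : hV.fromSpec P ∈ V := by
    have h1 : hV.fromSpec P ∈ Set.range hV.fromSpec := ⟨_, rfl⟩
    rw [hV.range_fromSpec] at h1
    exact h1
  have hxc : IsClosed ({hV.fromSpec P} : Set X) := by
    refine mem_closedPoints_iff.1 ?_
    show P ∈ hV.fromSpec ⁻¹' closedPoints X
    rw [hV.fromSpec.isOpenEmbedding.preimage_closedPoints]
    exact mem_closedPoints_iff.2 ((PrimeSpectrum.isClosed_singleton_iff_isMaximal _).2 ‹_›)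
  letI : Algebra Γ(X, V) (X.presheaf.stalk (hV.fromSpec P)) := (X.presheaf.germ V _ hx).hom.toAlgebra
  haveI : IsLocalization.AtPrime (X.presheaf.stalk (hV.fromSpec P)) M := hV.isLocalization_stalk' P hx
  haveI := H19Grp.isRegularLocalRing_stalk_of_smooth (X ↘ Spec (CommRingCat.of k)) (hV.fromSpec P)
  let ε := (IsLocalization.algEquiv M.primeCompl (X.presheaf.stalk (hV.fromSpec P)) (Localization.AtPrime M)).toRingEquiv
  exact ⟨IsRegularLocalRing.of_ringEquiv ε, (ringKrullDim_eq_of_ringEquiv ε).symm.trans (hn _ hxc)⟩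

theorem exists_chart' {ι : Type} [Finite ι] (M : ι → X.Modules) (rk : ι → ℕ)
    (hM : ∀ i, FlatMod.IsFinLocFreeOfRank (rk i) (M i)) (y : X) :
    ∃ V : X.Opens, IsAffineOpen V ∧ y ∈ V ∧ (∀ i, Nonempty (Module.Basis (Fin (rk i)) Γ(X, V) Γ(M i, V))) ∧
      ∃ (d : ℕ) (g : MvPolynomial (Fin d) k →+* Γ(X, V)),
        g.comp MvPolynomial.C = H11Bertini.scalars V ∧ g.Etale := by
  obtain ⟨U, hU, V, hV, hyV, hVU, hstd⟩ := Smooth.exists_isStandardSmooth (X ↘ Spec (CommRingCat.of k)) y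
  obtain rfl : U = ⊤ := eq_top_iff.2 fun z _ => (Subsingleton.elim (α := Spec (CommRingCat.of k)) _ z) ▸ hVU hyV
  choose W hyW t using fun i => hM i y
  haveI := Fintype.ofFinite ι
  obtain ⟨W₀, hyW₀, hW₀⟩ : ∃ W₀ : X.Opens, y ∈ W₀ ∧ ∀ i, W₀ ≤ W i :=
    ⟨Finset.univ.inf W, (Finset.inf_induction (p := fun U : X.Opens => y ∈ U) trivial
      (fun _ ha _ hb => ⟨ha, hb⟩) fun i _ => hyW i), fun i => Finset.inf_le (Finset.mem_univ i)⟩
  obtain ⟨h, hhW, hyh⟩ := hV.exists_basicOpen_le (V := W₀) ⟨y, hyW₀⟩ hyV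
  haveI : IsLocalization.Away h Γ(X, X.basicOpen h) := hV.isLocalization_basicOpen h
  have h1 : ((X ↘ Spec (CommRingCat.of k)).appLE ⊤ (X.basicOpen h) le_top).hom.IsStandardSmooth := by
    have h2 := RingHom.isStandardSmooth_stableUnderComposition _ _ hstd
      (RingHom.isStandardSmooth_holdsForLocalizationAway Γ(X, X.basicOpen h) h)
    convert h2 using 1
    rw [← Scheme.Hom.appLE_map _ hVU (homOfLE (X.basicOpen_le h)).op]
    rfl
  have h3 : (H11Bertini.scalars (k := k) (X.basicOpen h)).IsStandardSmooth :=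
    RingHom.isStandardSmooth_respectsIso.2 _ (Scheme.ΓSpecIso (CommRingCat.of k)).symm.commRingCatIsoToRingEquiv h1
  obtain ⟨d, g, hg, hge⟩ := h3.exists_etale_mvPolynomial
  exact ⟨_, hV.basicOpen h, hyh,
    fun i => H8Props.FinLocFree.exists_basis_of_chart (M i) (t i).some (hhW.trans (hW₀ i)), d, g, hg, hge⟩

theorem exists_surjective_of_ne_zero {B : Type u} [CommRing B] {P : Ideal B} {e : ℕ} {ι : Type*}
    (R : Matrix ι (Fin e) B) (g : Fin e → ι) (h : Fin e → Fin e) (hd : (R.submatrix g h).det ∉ P) :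
    Function.Surjective h := by
  refine Finite.injective_iff_surjective.1 fun a b h' => ?_
  by_contra hne
  refine hd ?_
  rw [Matrix.det_zero_of_column_eq hne (fun i => by simp [h'])]
  exact P.zero_mem

variable [CharZero k] [IsProper (X ↘ Spec (CommRingCat.of k))] {A₁ A₂ B₁ B₂ : X.Modules} {a₁ a₂ b₁ b₂ : ℕ}
  [DCoh.HasSheafHom A₁] [DCoh.HasSheafHom A₂]

/-- The generic condition on a chart. -/
theorem exists_poly_block_chart (hA₁ : FlatMod.IsFinLocFree A₁) (hA₂ : FlatMod.IsFinLocFree A₂)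
    (hB₁ : FlatMod.IsFinLocFree B₁) (hB₂ : FlatMod.IsFinLocFree B₂)
    (h₁₁ : Curv2.IsGloballyGenerated ((DCoh.sheafHom A₁).obj B₁))
    (h₁₂ : Curv2.IsGloballyGenerated ((DCoh.sheafHom A₁).obj B₂))
    (h₂₂ : Curv2.IsGloballyGenerated ((DCoh.sheafHom A₂).obj B₂))
    (hab : a₁ + a₂ ≤ b₁ + b₂) (hab₂ : a₂ ≤ b₂) {m : ℕ} (φ : Fin m → ((A₁ ⊞ A₂) ⟶ (B₁ ⊞ B₂)))
    (hspan : ∀ ψ, ∃ c : Fin m → k, ψ = ∑ i, c i • φ i) {n : ℕ}
    (hn : ∀ x : X, IsClosed ({x} : Set X) → ringKrullDim (X.presheaf.stalk x) = n)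
    {V : X.Opens} (hV : IsAffineOpen V) (bA₁ : Module.Basis (Fin a₁) Γ(X, V) Γ(A₁, V))
    (bA₂ : Module.Basis (Fin a₂) Γ(X, V) Γ(A₂, V)) (bB₁ : Module.Basis (Fin b₁) Γ(X, V) Γ(B₁, V))
    (bB₂ : Module.Basis (Fin b₂) Γ(X, V) Γ(B₂, V)) {d : ℕ} (g : MvPolynomial (Fin d) k →+* Γ(X, V))
    (hg : g.comp MvPolynomial.C = H11Bertini.scalars V) (hge : g.Etale) :
    ∃ q : MvPolynomial (Fin m) k, q ≠ 0 ∧ ∀ c : Fin m → k, MvPolynomial.eval c q ≠ 0 → ∀ ξ ∈ V,
      ξ ∈ (Fitt.sheafIdeal (cokernel (∑ i, c i • φ i)) (b₁ + b₂ - (a₁ + a₂))).support →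
      min (b₂ - a₂) (b₁ + b₂ - (a₁ + a₂)) + 1 ≤ n ∧
        H8Props.FieldDim.cdim ξ ≤ ((n - (min (b₂ - a₂) (b₁ + b₂ - (a₁ + a₂)) + 1) : ℕ) : WithBot ℕ∞) := by
  classical
  letI : Algebra k Γ(X, V) := (H11Bertini.scalars (k := k) V).toAlgebra
  let ga : MvPolynomial (Fin d) k →ₐ[k] Γ(X, V) := AlgHom.mk g fun a => RingHom.congr_fun hg a
  haveI : Algebra.FiniteType k Γ(X, V) := by
    letI : Algebra (MvPolynomial (Fin d) k) Γ(X, V) := g.toAlgebra
    haveI : Algebra.Etale (MvPolynomial (Fin d) k) Γ(X, V) := hge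
    haveI : IsScalarTower k (MvPolynomial (Fin d) k) Γ(X, V) := IsScalarTower.of_algebraMap_eq fun a => (ga.commutes a).symm
    exact Algebra.FiniteType.trans (S := MvPolynomial (Fin d) k) inferInstance inferInstance
  obtain ⟨bs, -⟩ := H11Bertini.exists_basis ga hge
  have hEf : FlatMod.IsFinLocFree (A₁ ⊞ A₂) := H16Derived.KFlat.Stalk.isFinLocFree_biprod hA₁ hA₂
  have hFf : FlatMod.IsFinLocFree (B₁ ⊞ B₂) := H16Derived.KFlat.Stalk.isFinLocFree_biprod hB₁ hB₂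
  let bE := sumBasis bA₁ bA₂
  let bF := sumBasis bB₁ bB₂
  let A : Fin m → Matrix (Fin (b₁ + b₂)) (Fin (a₁ + a₂)) Γ(X, V) := fun i => mat bE bF (φ i)
  let S : Set (Fin (a₁ + a₂)) := Set.range (Fin.natAdd a₁)
  have h11 : ∀ a b, ∃ w : Fin m → Γ(X, V), ∑ i, w i • A i = Matrix.single (Fin.castAdd b₂ a) (Fin.castAdd a₂ b) 1 :=
    fun a b => exists_single_of_mem bE bF φ _ _ (by
      rw [coord_left, sumBasis_left, comp_smulRight']
      exact block_mem hA₁ hB₁ h₁₁ φ hspan hV biprod.fst biprod.inl ((bA₁.coord b).smulRight (bB₁ a)))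
  have h12 : ∀ a b, ∃ w : Fin m → Γ(X, V), ∑ i, w i • A i = Matrix.single (Fin.natAdd b₁ a) (Fin.castAdd a₂ b) 1 :=
    fun a b => exists_single_of_mem bE bF φ _ _ (by
      rw [coord_left, sumBasis_right, comp_smulRight']
      exact block_mem hA₁ hB₂ h₁₂ φ hspan hV biprod.fst biprod.inr ((bA₁.coord b).smulRight (bB₂ a)))
  have h22 : ∀ a b, ∃ w : Fin m → Γ(X, V), ∑ i, w i • A i = Matrix.single (Fin.natAdd b₁ a) (Fin.natAdd a₁ b) 1 :=
    fun a b => exists_single_of_mem bE bF φ _ _ (by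
      rw [coord_right, sumBasis_right, comp_smulRight']
      exact block_mem hA₂ hB₂ h₂₂ φ hspan hV biprod.snd biprod.inr ((bA₂.coord b).smulRight (bB₂ a)))
  have hA : ∀ a, ∀ b ∉ S, ∃ w : Fin m → Γ(X, V), ∑ i, w i • A i = Matrix.single a b 1 := fun a b hb => by
    induction b using Fin.addCases with
    | right b => exact absurd ⟨b, rfl⟩ hb
    | left b =>
      induction a using Fin.addCases with
      | left a => exact h11 a b
      | right a => exact h12 a b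
  let A' : Fin m → Matrix (Fin b₂) (Fin a₂) Γ(X, V) := fun i => (A i).submatrix (Fin.natAdd b₁) (Fin.natAdd a₁)
  have hA' : ∀ a, ∀ b ∉ (∅ : Set (Fin a₂)), ∃ w : Fin m → Γ(X, V), ∑ i, w i • A' i = Matrix.single a b 1 := fun a b _ => by
    obtain ⟨w, hw⟩ := h22 a b
    refine ⟨w, Matrix.ext fun x y => ?_⟩
    have h := congrFun₂ hw (Fin.natAdd b₁ x) (Fin.natAdd a₁ y)
    simp only [Matrix.sum_apply, Matrix.smul_apply, A', Matrix.submatrix_apply] at h ⊢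
    rw [h]
    simp [Matrix.single_apply, Fin.ext_iff]
  have hreg := fun (M : Ideal Γ(X, V)) (_ : M.IsMaximal) => regular_maximal (k := k) hn hV M
  obtain ⟨q₁, hq₁0, hq₁⟩ := exists_poly_dim_le A bs S hA hab hreg
  obtain ⟨q₂, hq₂0, hq₂⟩ := exists_poly_dim_le A' bs ∅ hA' hab₂ hreg
  refine ⟨q₁ * q₂, mul_ne_zero hq₁0 hq₂0, fun c hc ξ hξV hξ => ?_⟩
  rw [map_mul, mul_ne_zero_iff] at hc
  let P := hV.primeIdealOf ⟨ξ, hξV⟩
  have hcd : H8Props.FieldDim.cdim ξ = ringKrullDim (Γ(X, V) ⧸ P.asIdeal) := by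
    conv_lhs => rw [show ξ = hV.fromSpec P from (hV.fromSpec_primeIdealOf ⟨ξ, hξV⟩).symm]
    exact H8Props.FieldDim.cdim_eq_chart (X ↘ Spec (CommRingCat.of k)) hV.fromSpec P
  let Φ := ∑ i, c i • φ i
  have hEc := H16Derived.KFlat.Stalk.isCoh_of_isFinLocFree hEf
  have hFc := H16Derived.KFlat.Stalk.isCoh_of_isFinLocFree hFf
  obtain ⟨hcq, hcft⟩ := H10Coh.isCoh_cokernel Φ hEc.1 hFc
  obtain ⟨hgen, hrel⟩ := presentation bE bF Φ hEc.1 hFc.1 hV
  have hT : mat bE bF Φ = comb A (cst c) := mat_comb bE bF rfl φ c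
  have hP := (H29Fitt.mem_support_iff _ hcq hcft _ hV ⟨ξ, hξV⟩).1 hξ
  rw [H29Fitt.ideal_eq _ hgen, Nat.sub_sub_self hab] at hP
  have hfull : ∀ (g' : Fin (a₁ + a₂) → Fin (b₁ + b₂)) (h' : Fin (a₁ + a₂) → Fin (a₁ + a₂)),
      ((comb A (cst c) : Matrix _ _ Γ(X, V)).submatrix g' h').det ∈ P.asIdeal := fun g' h' => by
    rw [← hT]
    exact hP (H29Fitt.det_mem_J (z := fun b a => mat bE bF Φ a (h' b))
      (fun b => (hrel _).2 ⟨Pi.single (h' b) 1, by ext a; simp⟩) g')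
  have hsub : (comb A' (cst c) : Matrix _ _ Γ(X, V)) = (comb A (cst c) : Matrix _ _ Γ(X, V)).submatrix (Fin.natAdd b₁) (Fin.natAdd a₁) :=
    Matrix.ext fun x y => by simp [comb_apply, A']
  rw [hcd]
  by_cases hR : ∀ (g' : Fin a₂ → Fin b₂) (h' : Fin a₂ → Fin a₂),
      ((comb A' (cst c) : Matrix _ _ Γ(X, V)).submatrix g' h').det ∈ P.asIdeal
  · obtain ⟨h1, h2⟩ := hq₂ c hc.2 P.asIdeal P.2 hR
      ⟨0, Fin.elim0, Fin.elim0, Set.empty_subset _, by rw [Matrix.det_fin_zero]; exact fun h => P.2.ne_top ((Ideal.eq_top_iff_one _).2 h)⟩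
    exact ⟨le_trans (by omega) h1, h2.trans (by exact_mod_cast (by omega))⟩
  · push Not at hR
    obtain ⟨g', h', hd⟩ := hR
    have hsurj := exists_surjective_of_ne_zero _ g' h' hd
    rw [hsub, Matrix.submatrix_submatrix] at hd
    obtain ⟨h1, h2⟩ := hq₁ c hc.1 P.asIdeal P.2 hfull
      ⟨a₂, _, _, (by rw [hsurj.range_comp]), hd⟩
    exact ⟨le_trans (by omega) h1, h2.trans (by exact_mod_cast (by omega))⟩

/-- Rank drop loci of general morphisms between sums of two bundles with three free blocks. -/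
theorem exists_poly_block (hA₁ : FlatMod.IsFinLocFreeOfRank a₁ A₁) (hA₂ : FlatMod.IsFinLocFreeOfRank a₂ A₂)
    (hB₁ : FlatMod.IsFinLocFreeOfRank b₁ B₁) (hB₂ : FlatMod.IsFinLocFreeOfRank b₂ B₂)
    (h₁₁ : Curv2.IsGloballyGenerated ((DCoh.sheafHom A₁).obj B₁))
    (h₁₂ : Curv2.IsGloballyGenerated ((DCoh.sheafHom A₁).obj B₂))
    (h₂₂ : Curv2.IsGloballyGenerated ((DCoh.sheafHom A₂).obj B₂))
    (hab : a₁ + a₂ ≤ b₁ + b₂) (hab₂ : a₂ ≤ b₂) {n : ℕ}
    (hn : ∀ x : X, IsClosed ({x} : Set X) → ringKrullDim (X.presheaf.stalk x) = n)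
    {m : ℕ} (φ : Fin m → ((A₁ ⊞ A₂) ⟶ (B₁ ⊞ B₂))) (hspan : ∀ ψ, ∃ c : Fin m → k, ψ = ∑ i, c i • φ i) :
    ∃ q : MvPolynomial (Fin m) k, q ≠ 0 ∧ ∀ c : Fin m → k, MvPolynomial.eval c q ≠ 0 →
      letI Z : Set X := ((Fitt.sheafIdeal (cokernel (∑ i, c i • φ i)) (b₁ + b₂ - (a₁ + a₂))).support : TopologicalSpace.Closeds X)
      Z = ∅ ∨ (min (b₂ - a₂) (b₁ + b₂ - (a₁ + a₂)) + 1 ≤ n ∧
        ∀ T ∈ irreducibleComponents Z,
          topologicalKrullDim T ≤ ((n - (min (b₂ - a₂) (b₁ + b₂ - (a₁ + a₂)) + 1) : ℕ) : WithBot ℕ∞)) := by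
  classical
  haveI : CompactSpace X := QuasiCompact.compactSpace_of_compactSpace (X ↘ Spec (CommRingCat.of k))
  choose V hV hyV hb d g hg hge using fun y => exists_chart' (k := k) (ι := Fin 4) ![A₁, A₂, B₁, B₂] ![a₁, a₂, b₁, b₂]
    (by intro i; fin_cases i <;> assumption) y
  have fl : ∀ {r : ℕ} {M : X.Modules}, FlatMod.IsFinLocFreeOfRank r M → FlatMod.IsFinLocFree M :=
    fun {r} {M} h x => let ⟨U, hx, hu⟩ := h x; ⟨U, r, hx, hu⟩
  choose q hq0 hq using fun y => exists_poly_block_chart (fl hA₁) (fl hA₂) (fl hB₁) (fl hB₂) h₁₁ h₁₂ h₂₂ hab hab₂ φ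
    hspan hn (hV y) ((hb y 0).some : Module.Basis (Fin a₁) Γ(X, V y) Γ(A₁, V y))
    ((hb y 1).some : Module.Basis (Fin a₂) Γ(X, V y) Γ(A₂, V y))
    ((hb y 2).some : Module.Basis (Fin b₁) Γ(X, V y) Γ(B₁, V y))
    ((hb y 3).some : Module.Basis (Fin b₂) Γ(X, V y) Γ(B₂, V y)) (g y) (hg y) (hge y)
  obtain ⟨t, ht⟩ := isCompact_univ.elim_finite_subcover (fun y : X => (V y : Set X)) (fun y => (V y).2)
    fun y _ => Set.mem_iUnion.2 ⟨y, hyV y⟩
  refine ⟨∏ y ∈ t, q y, Finset.prod_ne_zero_iff.2 fun y _ => hq0 y, fun c hc => ?_⟩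
  rw [map_prod, Finset.prod_ne_zero_iff] at hc
  have key : ∀ ξ ∈ (Fitt.sheafIdeal (cokernel (∑ i, c i • φ i)) (b₁ + b₂ - (a₁ + a₂))).support,
      min (b₂ - a₂) (b₁ + b₂ - (a₁ + a₂)) + 1 ≤ n ∧
        H8Props.FieldDim.cdim ξ ≤ ((n - (min (b₂ - a₂) (b₁ + b₂ - (a₁ + a₂)) + 1) : ℕ) : WithBot ℕ∞) := fun ξ hξ => by
    obtain ⟨y, hy, hxy⟩ := Set.mem_iUnion₂.1 (ht (Set.mem_univ ξ))
    exact hq y c (hc y hy) ξ hxy hξ
  set C : TopologicalSpace.Closeds X := (Fitt.sheafIdeal (cokernel (∑ i, c i • φ i)) (b₁ + b₂ - (a₁ + a₂))).support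
  rcases (C : Set X).eq_empty_or_nonempty with h0 | ⟨ξ₀, hξ₀⟩
  · exact Or.inl h0
  refine Or.inr ⟨(key ξ₀ hξ₀).1, fun T hT => ?_⟩
  have hTc : IsClosed (Subtype.val '' T : Set X) :=
    C.isClosed.isClosedEmbedding_subtypeVal.isClosedMap _ (isClosed_of_mem_irreducibleComponents T hT)
  have hTi : IsIrreducible (Subtype.val '' T : Set X) := hT.1.image _ continuous_subtype_val.continuousOn
  have hgen := hTi.isGenericPoint_genericPoint hTc
  have hmem : hTi.genericPoint ∈ (C : Set X) := by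
    obtain ⟨z, -, hz⟩ := hgen.mem
    exact hz ▸ z.2
  refine le_trans (le_of_eq ?_) (key _ hmem).2
  rw [H8Props.FieldDim.cdim, hgen]
  conv_lhs => rw [← Set.preimage_image_eq T Subtype.val_injective]
  rw [H8Props.FieldDim.dim_preimage Topology.IsEmbedding.subtypeVal,
    Set.inter_eq_left.2 (Set.image_subset_range _ _)]

end Groth.Agent.H11Degen
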