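import Groth.Agent.H11Degen.Local
import Groth.Agent.H11Degen.Point
import Groth.Agent.H02CA.CMEquidim

/-!
# Dimension bounds for degeneracy loci of general matrices with some free columns
-/

set_option autoImplicit false
set_option linter.style.haveILetI false
set_option linter.unusedSectionVars false

universe u

noncomputable section

namespace Groth.Agent.H11Degen

open Matrix IsLocalRing

theorem ringKrullDim_quot_atPrime {k B : Type u} [Field k] [CommRing B] [Algebra k B] [Algebra.FiniteType k B]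
    (P m : Ideal B) [P.IsPrime] [m.IsMaximal] (hle : P ≤ m) :
    ringKrullDim (Localization.AtPrime m ⧸ P.map (algebraMap B (Localization.AtPrime m))) = ringKrullDim (B ⧸ P) := by
  rw [← H02CA.CMEquidim.height_eq_dim_quotient (k := k) P m hle]
  let mb : Ideal (B ⧸ P) := m.map (Ideal.Quotient.mk P)
  haveI : mb.IsPrime := Ideal.map_isPrime_of_surjective Ideal.Quotient.mk_surjective
    (by rw [Ideal.mk_ker]; exact hle)
  haveI : mb.LiesOver m := ⟨(Ideal.comap_map_mk hle).symm⟩
  haveI : IsLocalization.AtPrime (Localization.AtPrime m ⧸ P.map (algebraMap B (Localization.AtPrime m))) mb := by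
    have e := Ideal.algebraMapSubmonoid_primeCompl_of_liesOver_surjective mb m
      (show Function.Surjective (algebraMap B (B ⧸ P)) from Ideal.Quotient.mk_surjective)
    show IsLocalization mb.primeCompl _
    rw [← e]
    infer_instance
  exact IsLocalization.AtPrime.ringKrullDim_eq_height mb _

variable {k B : Type u} [Field k] [IsAlgClosed k] [CharZero k] [CommRing B] [Algebra k B] [Algebra.FiniteType k B]
  {m f e : ℕ} (A : Fin m → Matrix (Fin f) (Fin e) B)

/-- General members of a family of matrices spanning the entries of the columns outside `S`: where the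
columns in `S` stay independent and the rank drops, the dimension is small. -/
theorem exists_poly_dim_le {d : ℕ} (bs : Module.Basis (Fin d) B Ω[B⁄k]) (S : Set (Fin e))
    (hA : ∀ a, ∀ b ∉ S, ∃ w : Fin m → B, ∑ i, w i • A i = Matrix.single a b (1 : B))
    (hef : e ≤ f) {n : ℕ} (hreg : ∀ M : Ideal B, [M.IsMaximal] →
      IsRegularLocalRing (Localization.AtPrime M) ∧ ringKrullDim (Localization.AtPrime M) = n) :
    ∃ q : MvPolynomial (Fin m) k, q ≠ 0 ∧ ∀ c : Fin m → k, MvPolynomial.eval c q ≠ 0 →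
      ∀ P : Ideal B, P.IsPrime →
        (∀ (g : Fin e → Fin f) (h : Fin e → Fin e), ((comb A (cst c) : Matrix (Fin f) (Fin e) B).submatrix g h).det ∈ P) →
        (∃ (s : ℕ) (I : Fin s → Fin f) (J : Fin s → Fin e), S ⊆ Set.range J ∧
          ((comb A (cst c) : Matrix (Fin f) (Fin e) B).submatrix I J).det ∉ P) →
        f - e + 1 ≤ n ∧ ringKrullDim (B ⧸ P) ≤ ((n - (f - e + 1) : ℕ) : WithBot ℕ∞) := by
  classical
  let Idx := {x : Σ r : Fin (e + 1), (Fin r → Fin f) × (Fin r → Fin e) // S ⊆ Set.range x.2.2}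
  choose q hq0 hq using fun x : Idx =>
    exists_poly_independent A x.1.2.1 x.1.2.2 bs fun p => hA p.1.1 p.2.1 fun hb => p.2.2 (x.2 hb)
  refine ⟨∏ x, q x, Finset.prod_ne_zero_iff.2 fun x _ => hq0 x, fun c hc P hP hfull ⟨s, I₀, J₀, hS, hs⟩ => ?_⟩
  rw [map_prod, Finset.prod_ne_zero_iff] at hc
  set T : Matrix (Fin f) (Fin e) B := comb A (cst c)
  have hinj : ∀ {r : ℕ} (I : Fin r → Fin f) (J : Fin r → Fin e), (T.submatrix I J).det ∉ P →
      Function.Injective I ∧ Function.Injective J := fun {r} I J h => by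
    refine ⟨fun a b h' => ?_, fun a b h' => ?_⟩ <;> by_contra hne <;> refine h ?_
    · rw [Matrix.det_zero_of_row_eq hne (funext fun j => by simp [h'])]; exact P.zero_mem
    · rw [Matrix.det_zero_of_column_eq hne (fun i => by simp [h'])]; exact P.zero_mem
  let Q : ℕ → Prop := fun r => ∃ (I : Fin r → Fin f) (J : Fin r → Fin e),
    S ⊆ Set.range J ∧ (T.submatrix I J).det ∉ P
  have hQle : ∀ r, Q r → r < e := fun r ⟨I, J, _, h⟩ => by
    have h1 := Fintype.card_le_of_injective J (hinj I J h).2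
    rw [Fintype.card_fin, Fintype.card_fin] at h1
    refine lt_of_le_of_ne h1 fun he => h ?_
    subst he
    exact hfull I J
  let r := Nat.findGreatest Q e
  obtain ⟨I, J, hSJ, hδ⟩ : Q r := Nat.findGreatest_spec (hQle s ⟨I₀, J₀, hS, hs⟩).le ⟨I₀, J₀, hS, hs⟩
  have hre : r < e := hQle r ⟨I, J, hSJ, hδ⟩
  have hbd : ∀ p : Bd I J, (T.submatrix (Fin.cons p.1.1 I) (Fin.cons p.2.1 J)).det ∈ P := fun p => by
    by_contra hp
    exact Nat.findGreatest_is_greatest (P := Q) (Nat.lt_succ_self r) hre
      ⟨_, _, hSJ.trans (by rw [Fin.range_cons]; exact Set.subset_insert _ _), hp⟩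
  obtain ⟨M, ⟨hPM, hM⟩, hδM⟩ : ∃ M, (P ≤ M ∧ M.IsMaximal) ∧ (T.submatrix I J).det ∉ M := by
    haveI : IsJacobsonRing B := isJacobsonRing_of_finiteType (A := k)
    by_contra hall
    push Not at hall
    refine hδ ?_
    rw [← IsJacobsonRing.out ‹_› hP.isRadical]
    exact Submodule.mem_sInf.2 fun M hM => hall M hM
  obtain ⟨χ, hχ⟩ := exists_point (k := k) M
  have hδ0 : χ (delta A I J (cst c)) ≠ 0 := fun h0 => hδM (hχ ▸ h0)
  have hF0 : ∀ p : Bd I J, χ (bminor A I J (cst c) p) = 0 := fun p => by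
    show bminor A I J (cst c) p ∈ RingHom.ker χ
    exact hχ ▸ hPM (hbd p)
  have hli := hq ⟨⟨⟨r, by omega⟩, I, J⟩, hSJ⟩ c (hc _ (Finset.mem_univ _)) χ hδ0 hF0
  haveI : (RingHom.ker χ).IsPrime := hχ ▸ hM.isPrime
  haveI : IsLocalization.AtPrime (Localization.AtPrime M) (RingHom.ker χ) := by
    convert (inferInstance : IsLocalization.AtPrime (Localization.AtPrime M) M) using 1
  obtain ⟨hr1, hr2⟩ := hreg M
  obtain ⟨-, hle, hdim⟩ := regular_of_independent (R := Localization.AtPrime M) χ
    (fun l => (bs.coord l).compDer (KaehlerDifferential.D k B)) _ hF0 hli hr2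
  obtain ⟨hI, hJ⟩ := hinj I J hδ
  rw [card_bd hI hJ] at hle hdim
  have hrf : r ≤ f := by simpa using Fintype.card_le_of_injective I hI
  have hcard : f - e + 1 ≤ (f - r) * (e - r) :=
    le_trans (by omega) (Nat.le_mul_of_pos_right (f - r) (by omega))
  refine ⟨hcard.trans hle, ?_⟩
  rw [← ringKrullDim_quot_atPrime (k := k) P M hPM]
  refine le_trans (ringKrullDim_le_of_surjective (Ideal.Quotient.factor ?_) (Ideal.Quotient.factor_surjective _))
    (hdim.le.trans (by exact_mod_cast Nat.sub_le_sub_left hcard n))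
  rw [Ideal.span_le]
  rintro _ ⟨p, rfl⟩
  exact Ideal.mem_map_of_mem _ (hbd p)

end Groth.Agent.H11Degen
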